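import Cfsg.Agent.H963.XZ.Bt

/-!
# S4942, alternating groups: hooks (helper78)

`Hk r B`: the set `B` of beta-numbers has a hook of length `r`.  `shape`: the partitions of `n` with a hook of length
`n - 2`.  `odd_case`, `even_case`: the partitions with the three required hooks are the row and the column.
-/

set_option autoImplicit false

namespace Cfsg.Agent.VAN.Alt

open Finset Cfsg Cfsg.Agent.H614

/-- a hook of length `r` -/
def Hk (r : ℕ) (B : ℕ → Prop) : Prop := ∃ b, B b ∧ r ≤ b ∧ ¬ B (b - r)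

/-- a hook of length `r`, after whose removal there is a hook of length `s` -/
def Hk2 (r s : ℕ) (B : ℕ → Prop) : Prop :=
  ∃ b, B b ∧ r ≤ b ∧ ¬ B (b - r) ∧ Hk s fun x => x = b - r ∨ (B x ∧ x ≠ b)

theorem step {m r : ℕ} (hr : 0 < r) {s : Multiset ℕ} {β : Fin m → ℕ} (h : FM (r ::ₘ s) β ≠ 0) :
    ∃ j, r ≤ β j ∧ β j - r ∉ Set.range β ∧ FM s (dn β j r) ≠ 0 := by
  rw [FM_cons] at h
  obtain ⟨j, -, hj⟩ := Finset.exists_ne_zero_of_sum_ne_zero h
  by_cases h1 : r ≤ β j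
  · rw [if_pos h1] at hj
    refine ⟨j, h1, ?_, hj⟩
    rintro ⟨k, hk⟩
    have hkj : k ≠ j := by
      rintro rfl
      omega
    refine hj (FM_eq_zero_of_not_injective _ fun hinj => hkj (hinj ?_))
    rw [dn_self, dn_ne _ _ hkj, hk]
  · rw [if_neg h1] at hj
    exact absurd rfl hj

theorem hk_of {m r : ℕ} (hr : 0 < r) {s : Multiset ℕ} {β : Fin m → ℕ} (h : FM (r ::ₘ s) β ≠ 0) :
    Hk r fun x => x ∈ Set.range β := by
  obtain ⟨j, h1, h2, -⟩ := step hr h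
  exact ⟨β j, ⟨j, rfl⟩, h1, h2⟩

theorem hk2_of {m r r' : ℕ} (hr : 0 < r) (hr' : 0 < r') {s : Multiset ℕ} {β : Fin m → ℕ} (hβ : Function.Injective β)
    (h : FM (r ::ₘ r' ::ₘ s) β ≠ 0) : Hk2 r r' fun x => x ∈ Set.range β := by
  obtain ⟨j, h1, h2, h3⟩ := step hr h
  refine ⟨β j, ⟨j, rfl⟩, h1, h2, ?_⟩
  have h4 : (fun x => x = β j - r ∨ (x ∈ Set.range β ∧ x ≠ β j)) = fun x => x ∈ Set.range (dn β j r) := by
    funext x
    refine propext ⟨?_, ?_⟩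
    · rintro (rfl | ⟨⟨k, rfl⟩, hk⟩)
      · exact ⟨j, dn_self _ _ _⟩
      · exact ⟨k, dn_ne _ _ fun e => hk (by rw [e])⟩
    · rintro ⟨k, rfl⟩
      by_cases hk : k = j
      · left
        rw [hk, dn_self]
      · right
        rw [dn_ne _ _ hk]
        exact ⟨⟨k, rfl⟩, fun e => hk (hβ e)⟩
  rw [h4]
  exact hk_of hr' h3

/-- the shape: `z` zero parts, then parts `1`, then `l2 ≤ l1 ≤ a` -/
structure Sh (n z l2 l1 a : ℕ) (B : ℕ → Prop) : Prop where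
  mem : ∀ x, B x ↔ x < z ∨ (z < x ∧ x + 3 ≤ n) ∨ x + 3 = l2 + n ∨ x + 2 = l1 + n ∨ x + 1 = a + n
  le2 : l2 ≤ l1
  le1 : l1 ≤ a
  zn : z < n
  z2 : (z + 3 ≤ n ∧ 1 ≤ l2) ∨ (n < z + 3 ∧ l2 = 0)
  z1 : (z + 2 ≤ n ∧ 1 ≤ l1) ∨ (n < z + 2 ∧ l1 = 0)
  a1 : 1 ≤ a
  sum : n = (n - 3 - z) + l2 + l1 + a
  za : z ≤ a + 1

theorem sum_ind (z k : ℕ) : ∑ i ∈ range k, (if z ≤ i then 1 else 0) = k - z := by
  induction k with
  | zero => simp
  | succ k ih =>
    rw [sum_range_succ, ih]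
    split_ifs <;> omega

theorem shape {n : ℕ} (hn : 5 ≤ n) {β : Fin n → ℕ} (hβ : StrictMono β) (hs : ∑ i, β i = n + ∑ i : Fin n, (i : ℕ))
    (h : Hk (n - 2) fun x => x ∈ Set.range β) : ∃ z l2 l1 a, Sh n z l2 l1 a fun x => x ∈ Set.range β := by
  classical
  let q : ℕ → ℕ := fun i => if h : i < n then β ⟨i, h⟩ - i else 0
  have hq : ∀ (i : ℕ) (hi : i < n), β ⟨i, hi⟩ = q i + i := by
    intro i hi
    have h1 : i ≤ β ⟨i, hi⟩ := strictMono_le hβ ⟨i, hi⟩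
    simp only [q, dif_pos hi]
    omega
  have hmono : ∀ i j, i ≤ j → j < n → q i ≤ q j := by
    intro i j hij hj
    induction j, hij using Nat.le_induction with
    | base => exact le_rfl
    | succ j hij ih =>
      have h1 := hβ (show (⟨j, by omega⟩ : Fin n) < ⟨j + 1, hj⟩ from Nat.lt_succ_self j)
      rw [hq, hq] at h1
      have h2 := ih (by omega)
      omega
  have hsum : ∑ i ∈ range n, q i = n := by
    have h1 : ∑ i, β i = ∑ i : Fin n, (q i + i) := sum_congr rfl fun i _ => hq i i.2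
    rw [h1, sum_add_distrib, Fin.sum_univ_eq_sum_range q n] at hs
    omega
  have hex : ∃ i, i < n ∧ q i ≠ 0 := by
    by_contra hc
    push Not at hc
    rw [sum_eq_zero fun i hi => hc i (mem_range.1 hi)] at hsum
    omega
  obtain ⟨z, ⟨hzn, hz⟩, hmin⟩ : ∃ z, (z < n ∧ q z ≠ 0) ∧ ∀ i < z, ¬ (i < n ∧ q i ≠ 0) :=
    ⟨Nat.find hex, Nat.find_spec hex, fun i hi => Nat.find_min hex hi⟩
  have h0 : ∀ i < z, q i = 0 := fun i hi => by
    by_contra hc
    exact hmin i hi ⟨by omega, hc⟩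
  have h1 : ∀ i, z ≤ i → i < n → 1 ≤ q i := fun i hi hin => by
    have := hmono z i hi hin
    omega
  have hsplit : ∑ i ∈ range (n - 3), q i + q (n - 3) + q (n - 2) + q (n - 1) = n := by
    obtain ⟨k, rfl⟩ : ∃ k, n = k + 3 := ⟨n - 3, by omega⟩
    rw [sum_range_succ, sum_range_succ, sum_range_succ] at hsum
    exact hsum
  have hza : z ≤ q (n - 1) + 1 := by
    obtain ⟨_, ⟨⟨j, hj⟩, rfl⟩, h2, h3⟩ := h
    have h4 : z ≤ β ⟨j, hj⟩ - (n - 2) := by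
      by_contra hc
      refine h3 ⟨⟨β ⟨j, hj⟩ - (n - 2), by omega⟩, ?_⟩
      rw [hq, h0 _ (by omega), zero_add]
    have h5 := hmono j (n - 1) (by omega) (by omega)
    rw [hq] at h4 h2
    omega
  have h32 := hmono (n - 3) (n - 2) (by omega) (by omega)
  have h21 := hmono (n - 2) (n - 1) (by omega) (by omega)
  have hone : ∀ i, z ≤ i → i < n - 3 → q i = 1 := by
    intro i hi hin
    by_contra hc
    have h2 := h1 i hi (by omega)
    have h3 := hmono i (n - 3) (by omega) (by omega)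
    have h4 : ∑ k ∈ range (n - 3), ((if z ≤ k then 1 else 0) + if k = i then 1 else 0) ≤ ∑ k ∈ range (n - 3), q k := by
      refine sum_le_sum fun k hk => ?_
      have h5 := mem_range.1 hk
      by_cases h6 : k = i
      · rw [if_pos h6, h6, if_pos hi]
        omega
      · rw [if_neg h6]
        split_ifs with h7
        · exact h1 k h7 (by omega)
        · exact Nat.zero_le _
    rw [sum_add_distrib, sum_ind, sum_ite_eq' (range (n - 3)) i, if_pos (mem_range.2 hin)] at h4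
    omega
  have hs3 : ∑ i ∈ range (n - 3), q i = n - 3 - z := by
    rw [← sum_ind z (n - 3)]
    refine Finset.sum_congr (s₂ := range (n - 3)) rfl fun i hi => ?_
    split_ifs with h2
    · exact hone i h2 (mem_range.1 hi)
    · exact h0 i (by omega)
  refine ⟨z, q (n - 3), q (n - 2), q (n - 1), fun x => ⟨?_, ?_⟩, h32, h21, hzn, ?_, ?_, h1 _ (by omega) (by omega),
    by omega, hza⟩
  · rintro ⟨⟨i, hi⟩, rfl⟩
    rw [hq]
    by_cases h2 : i < z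
    · rw [h0 i h2]
      omega
    by_cases h3 : i < n - 3
    · rw [hone i (by omega) h3]
      omega
    rcases (by omega : i = n - 3 ∨ i = n - 2 ∨ i = n - 1) with rfl | rfl | rfl <;> omega
  · rintro (h2 | h2 | h2 | h2 | h2)
    · exact ⟨⟨x, by omega⟩, by rw [hq, h0 x h2, zero_add]⟩
    · exact ⟨⟨x - 1, by omega⟩, by rw [hq, hone _ (by omega) (by omega)]; omega⟩
    · exact ⟨⟨n - 3, by omega⟩, by rw [hq]; omega⟩
    · exact ⟨⟨n - 2, by omega⟩, by rw [hq]; omega⟩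
    · exact ⟨⟨n - 1, by omega⟩, by rw [hq]; omega⟩
  · by_cases h2 : z + 3 ≤ n
    · exact Or.inl ⟨h2, h1 _ (by omega) (by omega)⟩
    · exact Or.inr ⟨by omega, h0 _ (by omega)⟩
  · by_cases h2 : z + 2 ≤ n
    · exact Or.inl ⟨h2, h1 _ (by omega) (by omega)⟩
    · exact Or.inr ⟨by omega, h0 _ (by omega)⟩

/-- the set is its own reflection -/
def Sym (n : ℕ) (B : ℕ → Prop) : Prop := ∀ x < n + n, B x ↔ ¬ B (n + n - 1 - x)

variable {n z l2 l1 a : ℕ} {B : ℕ → Prop}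

theorem Sh.cases (h : Sh n z l2 l1 a B) : (a = n ∧ z + 1 = n ∧ l1 = 0 ∧ l2 = 0) ∨
    (z + 2 = n ∧ l2 = 0 ∧ a + l1 = n ∧ (l1 = 1 ∨ l1 = 2 ∨ l1 = 3)) ∨
    (z + 3 ≤ n ∧ z + 3 = l1 + l2 + a ∧ ((l1 = 1 ∧ l2 = 1) ∨ (l1 = 2 ∧ l2 = 1) ∨ (l1 = 3 ∧ l2 = 1) ∨ (l1 = 2 ∧ l2 = 2))) := by
  obtain ⟨-, g1, g2, g3, g4, g5, g6, g7, g8⟩ := h
  omega

theorem Sh.sym (h : Sh n z l2 l1 a B) (hn : 5 ≤ n) (hs : Sym n B) : a + z = n ∧ z + 3 ≤ n ∧ l2 = 1 ∧ l1 ≤ 2 := by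
  have h1 := hs z (by have := h.zn; omega)
  have h2 := hs (a + n - 1) (by have := h.sum; omega)
  have h3 := hs (l1 + n - 2) (by have := h.sum; have := h.le1; omega)
  have hc := h.cases
  have g2 := h.le1
  have h4 : ¬ B z := by
    rw [h.mem]
    omega
  have h5 : B (a + n - 1) := (h.mem _).2 (by omega)
  have h6 : B (l1 + n - 2) := (h.mem _).2 (by omega)
  have h7 : B (n + n - 1 - z) := by
    by_contra h8
    exact h4 (h1.2 h8)
  have h8 := h2.1 h5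
  have h9 := h3.1 h6
  rw [h.mem] at h7 h8 h9
  have k1 : n ≤ a + z := by omega
  have k2 : a + z ≤ n := by omega
  omega

theorem Sh.hook (h : Sh n z l2 l1 a B) {r : ℕ} (hr : 0 < r) (hk : Hk r B) :
    r + z + 1 = a + n ∨ r + z + 2 = l1 + n ∨ r + z + 3 = l2 + n ∨ r + z + 3 ≤ n ∨
      (r ≤ a + 1 ∧ a + 1 ≠ r + l1 ∧ a + 2 ≠ r + l2) ∨ (r ≤ l1 ∧ l1 + 1 ≠ r + l2) ∨ r + 1 ≤ l2 := by
  obtain ⟨b, p1, p2, p3⟩ := hk
  rw [h.mem] at p1 p3
  have h1 : b - r = z ∨ n < b - r + 3 := by omega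
  omega

theorem odd_case (h : Sh n z l2 l1 a B) (hn : 5 ≤ n) (ho : n % 2 = 1) (h1 : Hk (n - 2) B) (h2 : Hk2 (n - 3) 2 B)
    (h3 : Sym n B ∨ Hk n B) : a = n ∨ a = 1 := by
  have k1 := h.hook (by omega) h1
  obtain ⟨b2, q1, q2, q3, c, q4, q5, q6⟩ := h2
  have k2 := h.hook (by omega) ⟨b2, q1, q2, q3⟩
  have hc := h.cases
  have g2 := h.le1
  have k4 : a = n ∨ a = 1 ∨ (a + 1 = n ∧ z + 2 = n ∧ l1 = 1 ∧ l2 = 0) ∨ (a = 2 ∧ z = 1 ∧ l1 = 1 ∧ l2 = 1) := by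
    clear q1 q2 q3 q4 q5 q6
    rcases h3 with h3 | h3
    · have k3 := h.sym hn h3
      omega
    · have k3 := h.hook (by omega) h3
      rcases hc with hc | hc | hc
      · omega
      · omega
      · omega
  have hB := h.mem
  clear k1 k2 hc h3 h1 h
  rcases k4 with k4 | k4 | ⟨e1, e2, rfl, rfl⟩ | ⟨rfl, rfl, rfl, rfl⟩
  · exact Or.inl k4
  · exact Or.inr k4
  · exfalso
    simp only [hB] at q1 q3 q4 q6
    have k5 : b2 + 1 = a + n := by omega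
    omega
  · exfalso
    simp only [hB] at q1 q3 q4 q6
    have k5 : b2 + 2 = n := by omega
    omega

theorem even_case (h : Sh n z l2 l1 a B) (hn : 5 ≤ n) (he : n % 2 = 0) (h1 : Hk (n - 2) B) (h2 : Hk (n - 3) B)
    (h3 : Sym n B ∨ Hk (n - 1) B) : a = n ∨ a = 1 := by
  have k1 := h.hook (by omega) h1
  have k2 := h.hook (by omega) h2
  have hc := h.cases
  have g2 := h.le1
  rcases h3 with h3 | h3
  · have k3 := h.sym hn h3
    omega
  · have k3 := h.hook (by omega) h3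
    rcases hc with hc | hc | hc
    · omega
    · omega
    · omega

theorem Sh.row (h : Sh n z l2 l1 n B) (hn : 5 ≤ n) (x : ℕ) : B x ↔ x + 1 < n ∨ x + 1 = n + n := by
  obtain ⟨hB, g1, g2, g3, g4, g5, g6, g7, g8⟩ := h
  rw [hB]
  omega

theorem Sh.col (h : Sh n z l2 l1 1 B) (x : ℕ) : B x ↔ 1 ≤ x ∧ x ≤ n := by
  obtain ⟨hB, g1, g2, g3, g4, g5, g6, g7, g8⟩ := h
  rw [hB]
  omega

end Cfsg.Agent.VAN.Alt
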