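import Cfsg.Agent.VAN.Alt.Comb
import Cfsg.Agent.VAN.Iface
import Cfsg.Agent.CharactersDeep.CliffordSum
import Cfsg.Agent.CharDeep.PowerDegrees
import Cfsg.Agent.H614.IndexTwo
import Mathlib.GroupTheory.SpecificGroups.Alternating.Centralizer
import Mathlib.GroupTheory.Perm.Cycle.PossibleTypes

/-!
# S4942, the row of the alternating groups (helper78)

`n` odd: cycle types `(n-2, 1, 1)`, `(n-3, 2, 1)`, `(n)`; `n` even: `(n-2, 2)`, `(n-3, 1, 1, 1)`, `(n-1, 1)`.
-/

set_option autoImplicit false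
set_option linter.style.haveILetI false

namespace Cfsg.Agent.VAN.Alt

open Finset Cfsg Cfsg.Agent.H614 Cfsg.Agent.H615.AltRefl Cfsg.Agent.H615.AltConj Cfsg.Agent.Characters.Core
open Cfsg.Agent.H963.XZ

universe u

/-- **Descent of zeros to a normal subgroup**, at an element whose class does not split. -/
theorem zero_of_over {G : Type u} [Group G] [Fintype G] (N : Subgroup G) [N.Normal] [Fintype N] {χ : G → ℂ}
    (hχ : IsIrrCharacter G χ) {θ : N → ℂ} (hθ : IsIrrCharacter N θ) (h : classInner (fun n : N => χ n) θ ≠ 0) {g : N}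
    (hg : ∀ x : G, ∃ n : N, x * g * x⁻¹ = n * g * n⁻¹) (h0 : χ g = 0) : θ g = 0 := by
  classical
  have h1 := congrFun (CharactersDeep.CliffordSum.restrict_eq_smul_sum N hχ hθ h) g
  rw [h0, Pi.smul_apply, smul_eq_mul, Finset.sum_apply] at h1
  have h2 : ∀ ψ ∈ Finset.univ.image (fun x : G => θ ∘ (MulAut.conjNormal x : MulAut N)), ψ g = θ g := by
    intro ψ hψ
    obtain ⟨x, -, rfl⟩ := mem_image.1 hψ
    obtain ⟨n, hn⟩ := hg x
    have h3 : (MulAut.conjNormal x : MulAut N) g = n * g * n⁻¹ := Subtype.ext hn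
    rw [Function.comp_apply, h3]
    exact isIrr_isClassFunction hθ g n
  rw [Finset.sum_congr rfl h2, sum_const, nsmul_eq_mul] at h1
  rcases mul_eq_zero.1 h1.symm with h3 | h3
  · exact absurd h3 h
  · refine (mul_eq_zero.1 h3).resolve_left ?_
    rw [Nat.cast_eq_zero, card_eq_zero, image_eq_empty]
    exact univ_nonempty.ne_empty

/-- an even permutation with a given cycle type -/
theorem exists_elt {n : ℕ} (c : Multiset ℕ) (k : ℕ) (h1 : c.sum + k = n) (h2 : ∀ a ∈ c, 2 ≤ a)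
    (h3 : (c.sum + c.card) % 2 = 0) :
    ∃ g : alternatingGroup (Fin n), (g : Equiv.Perm (Fin n)).cycleType = c ∧
      ty (g : Equiv.Perm (Fin n)) = c + Multiset.replicate k 1 := by
  obtain ⟨g, hg⟩ := (Equiv.Perm.exists_with_cycleType_iff (Fin n) (m := c)).2 ⟨by rw [Fintype.card_fin]; omega, h2⟩
  refine ⟨⟨g, ?_⟩, hg, ?_⟩
  · rw [Equiv.Perm.mem_alternatingGroup, Equiv.Perm.sign_of_cycleType, hg]
    exact Even.neg_one_pow (Nat.even_iff.2 h3)
  · rw [ty_eq, hg, Fintype.card_fin, show n - c.sum = k by omega]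

theorem nonsplit {n : ℕ} {g : alternatingGroup (Fin n)}
    (h : (∃ a ∈ (g : Equiv.Perm (Fin n)).cycleType, a % 2 = 0) ∨ (g : Equiv.Perm (Fin n)).cycleType.sum + 2 ≤ n)
    (x : Equiv.Perm (Fin n)) : ∃ m : alternatingGroup (Fin n), x * g * x⁻¹ = m * g * m⁻¹ := by
  by_cases hx : x ∈ alternatingGroup (Fin n)
  · exact ⟨⟨x, hx⟩, rfl⟩
  have h1 : ¬ Subgroup.centralizer {(g : Equiv.Perm (Fin n))} ≤ alternatingGroup (Fin n) := by
    rw [Equiv.Perm.centralizer_le_alternating_iff, Fintype.card_fin]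
    rintro ⟨h2, h3, -⟩
    rcases h with ⟨a, ha, h4⟩ | h4
    · have := Nat.odd_iff.1 (h2 a ha)
      omega
    · omega
  obtain ⟨y, hy, hy'⟩ := SetLike.not_le_iff_exists.1 h1
  rw [Equiv.Perm.mem_alternatingGroup] at hx hy'
  refine ⟨⟨x * y, ?_⟩, ?_⟩
  · rw [Equiv.Perm.mem_alternatingGroup, map_mul, (Int.units_eq_one_or _).resolve_left hx,
      (Int.units_eq_one_or _).resolve_left hy']
    rfl
  · have h2 := Subgroup.mem_centralizer_singleton_iff.1 hy
    change _ = x * y * g * (x * y)⁻¹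
    rw [mul_assoc x y, h2]
    group

theorem ch_row {n : ℕ} (hn : 5 ≤ n) {β : Fin n → ℕ} (hβ : StrictMono β)
    (h : ∀ x, x ∈ Set.range β ↔ x + 1 < n ∨ x + 1 = n + n) (g : Equiv.Perm (Fin n)) : ch (Fin n) β g = 1 := by
  have h1 : StrictMono (kp n n) := by
    intro i j hij
    have h2 : (i : ℕ) < j := hij
    have h3 := j.2
    unfold kp
    split_ifs <;> omega
  have h2 : β = kp n n := by
    refine (StrictMono.range_inj hβ h1).1 (Set.ext fun x => (h x).trans ⟨?_, ?_⟩)
    · rintro (h3 | h3)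
      · exact ⟨⟨x, by omega⟩, kp_lt _ (by change x + 1 ≠ n; omega)⟩
      · refine ⟨⟨n - 1, by omega⟩, (kp_last _ (by change n - 1 + 1 = n; omega)).trans ?_⟩
        change n + (n - 1) = x
        omega
    · rintro ⟨i, rfl⟩
      have h3 := i.2
      unfold kp
      split_ifs <;> omega
  have h3 := FM_kp (n := n) (by omega) (ty g) (ty_pos g)
  rw [ty_sum, Fintype.card_fin] at h3
  rw [ch_apply, h2, h3, Int.cast_one]

/-- the common part -/
theorem van3_of {n : ℕ} (hn : 5 ≤ n) (g₁ g₂ g₃ : alternatingGroup (Fin n))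
    (h1 : ∀ x : Equiv.Perm (Fin n), ∃ m : alternatingGroup (Fin n), x * g₁ * x⁻¹ = m * g₁ * m⁻¹)
    (h2 : ∀ x : Equiv.Perm (Fin n), ∃ m : alternatingGroup (Fin n), x * g₂ * x⁻¹ = m * g₂ * m⁻¹)
    (hs : ∀ β : Fin n → ℕ, FM (ty (g₁ : Equiv.Perm (Fin n))) β ≠ 0 → Hk (n - 2) fun x => x ∈ Set.range β)
    (h : ∀ (β : Fin n → ℕ) (z l2 l1 a : ℕ), Function.Injective β → Sh n z l2 l1 a (fun x => x ∈ Set.range β) →
      FM (ty (g₁ : Equiv.Perm (Fin n))) β ≠ 0 → FM (ty (g₂ : Equiv.Perm (Fin n))) β ≠ 0 →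
      (Sym n fun x => x ∈ Set.range β) ∨ FM (ty (g₃ : Equiv.Perm (Fin n))) β ≠ 0 → a = n ∨ a = 1) :
    Van3 (alternatingGroup (Fin n)) := by
  classical
  refine ⟨g₁, g₂, g₃, fun θ hθ hne => ?_⟩
  by_contra hcon
  rw [not_or, not_or] at hcon
  obtain ⟨k1, k2, k3⟩ := hcon
  obtain ⟨χ, hχ, hin⟩ := CharDeep.PowerDegrees.exists_irr_over (alternatingGroup (Fin n)) hθ
  obtain ⟨β, hβ, hsum, rfl⟩ := irr_eq (m := n) (Fintype.card_fin n).le hχ
  have hsum' : ∑ i, β i = n + ∑ i : Fin n, (i : ℕ) := by rw [hsum, Fintype.card_fin]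
  obtain ⟨β', hβ', hrefl⟩ := exists_refl (m' := n) hβ (lt_of_strictMono hβ hsum' le_rfl)
  have hne0 : ∀ g : Equiv.Perm (Fin n), ch (Fin n) β g ≠ 0 → FM (ty g) β ≠ 0 := fun g hg h0 =>
    hg (by rw [ch_apply, h0, Int.cast_zero])
  have f1 := hne0 _ fun h0 => k1 (zero_of_over _ hχ hθ hin h1 h0)
  have f2 := hne0 _ fun h0 => k2 (zero_of_over _ hχ hθ hin h2 h0)
  have hsg : ∀ g : alternatingGroup (Fin n), sgn (g : Equiv.Perm (Fin n)) = 1 := fun g => by
    unfold sgn
    rw [Equiv.Perm.mem_alternatingGroup.1 g.2]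
    simp
  have : Nontrivial (Fin n) := Fin.nontrivial_iff_two_le.2 (by omega)
  have f3 : (Sym n fun x => x ∈ Set.range β) ∨ FM (ty (g₃ : Equiv.Perm (Fin n))) β ≠ 0 := by
    rcases restrict_two _ alternatingGroup.index_eq_two hχ hθ hin with h3 | ⟨-, h3⟩
    · exact Or.inr (hne0 _ (by rw [h3]; exact k3))
    · left
      have h4 : β = β' := by
        refine ch_inj (α := Fin n) hβ hβ' hsum (funext fun g => ?_)
        have h5 := ch_refl hrefl hβ hβ' hsum g
        by_cases hg : g ∈ alternatingGroup (Fin n)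
        · rw [h5, hsg ⟨g, hg⟩, one_mul]
        · have h6 := h3 g hg
          rw [h6] at h5 ⊢
          rw [← one_mul (ch _ β' g), ← sgn_mul_self g, mul_assoc, ← h5, mul_zero]
      subst h4
      exact hrefl.iff
  obtain ⟨z, l2, l1, a, hSh⟩ := shape hn hβ hsum' (hs β f1)
  have hone : ∀ g : alternatingGroup (Fin n), ch (Fin n) β g = 1 := by
    intro g
    rcases h β z l2 l1 a hβ.injective hSh f1 f2 f3 with rfl | rfl
    · exact ch_row hn hβ (hSh.row hn) g
    · rw [ch_refl hrefl hβ hβ' hsum, hsg, one_mul]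
      refine ch_row hn hβ' (fun x => ?_) g
      by_cases hx : x < n + n
      · have h3 := hrefl.iff (n + n - 1 - x) (by omega)
        rw [show n + n - 1 - (n + n - 1 - x) = x by omega, hSh.col] at h3
        constructor
        · intro h4
          have h5 := mt h3.1 (not_not.2 h4)
          omega
        · intro h4
          by_contra h5
          have h6 := h3.2 h5
          omega
      · refine iff_of_false ?_ (by omega)
        rintro ⟨i, rfl⟩
        exact hx (hrefl.lt' i)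
  rw [funext hone] at hin
  exact hin (classInner_irr_ne isIrr_one hθ (Ne.symm hne))

theorem van3_alt {n : ℕ} (hn : 5 ≤ n) : Van3 (alternatingGroup (Fin n)) := by
  rcases Nat.mod_two_eq_zero_or_one n with he | ho
  · obtain ⟨g₁, c1, t1⟩ := exists_elt (n := n) {n - 2, 2} 0 (by simp; omega) (by simp; omega) (by simp; omega)
    obtain ⟨g₂, c2, t2⟩ := exists_elt (n := n) {n - 3} 3 (by simp; omega) (by simp; omega) (by simp; omega)
    obtain ⟨g₃, -, t3⟩ := exists_elt (n := n) {n - 1} 1 (by simp; omega) (by simp; omega) (by simp; omega)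
    have hs : ∀ β : Fin n → ℕ, FM (ty (g₁ : Equiv.Perm (Fin n))) β ≠ 0 → Hk (n - 2) fun x => x ∈ Set.range β := by
      intro β f1
      rw [t1, Multiset.insert_eq_cons, Multiset.cons_add] at f1
      exact hk_of (by omega) f1
    refine van3_of hn g₁ g₂ g₃ (nonsplit (Or.inl ⟨2, by rw [c1]; simp, rfl⟩))
      (nonsplit (Or.inr (by rw [c2]; simp; omega))) hs fun β z l2 l1 a _ hSh f1 f2 f3 => ?_
    rw [t2, Multiset.singleton_add] at f2
    rw [t3, Multiset.singleton_add] at f3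
    exact even_case hSh hn he (hs β f1) (hk_of (by omega) f2) (f3.imp_right (hk_of (by omega)))
  · obtain ⟨g₁, c1, t1⟩ := exists_elt (n := n) {n - 2} 2 (by simp; omega) (by simp; omega) (by simp; omega)
    obtain ⟨g₂, c2, t2⟩ := exists_elt (n := n) {n - 3, 2} 1 (by simp; omega) (by simp; omega) (by simp; omega)
    obtain ⟨g₃, -, t3⟩ := exists_elt (n := n) {n} 0 (by simp) (by simp; omega) (by simp; omega)
    have hs : ∀ β : Fin n → ℕ, FM (ty (g₁ : Equiv.Perm (Fin n))) β ≠ 0 → Hk (n - 2) fun x => x ∈ Set.range β := by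
      intro β f1
      rw [t1, Multiset.singleton_add] at f1
      exact hk_of (by omega) f1
    refine van3_of hn g₁ g₂ g₃ (nonsplit (Or.inr (by rw [c1]; simp; omega)))
      (nonsplit (Or.inl ⟨2, by rw [c2]; simp, rfl⟩)) hs fun β z l2 l1 a hβ hSh f1 f2 f3 => ?_
    rw [t2, Multiset.insert_eq_cons, Multiset.cons_add, Multiset.singleton_add] at f2
    rw [t3, Multiset.singleton_add] at f3
    exact odd_case hSh hn ho (hs β f1) (hk2_of (by omega) (by omega) hβ f2) (f3.imp_right (hk_of (by omega)))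

/-- **The row of the alternating groups.** -/
theorem altRow : AltRow.{u} := fun _ _ _ _ _ ⟨_, hn, ⟨e⟩⟩ => (van3_alt hn).of_equiv e.symm

end Cfsg.Agent.VAN.Alt
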