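import Cfsg.Agent.VAN.Alt.Row

/-!
# S4942: the characters of `S_n` which vanish neither on the `n`-cycles nor on the `(n-1)`-cycles (helper78)

* `wa_range`: beta-numbers with `FM {n} β ≠ 0` and a hook of length `n - 1` are those of the row or of the column;
* `wa`: an irreducible character of `Perm α` with `φ g ≠ 0 ≠ φ h` (`g` an `n`-cycle, `h` an `(n-1)`-cycle) is `1` or `sgn`.
-/

set_option autoImplicit false

namespace Cfsg.Agent.VAN.Alt

open Finset Cfsg Cfsg.Agent.H614 Cfsg.Agent.H615.AltRefl Cfsg.Agent.H615.AltConj Cfsg.Agent.Characters.Core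
open Cfsg.Agent.H963.XZ

universe u

theorem range_of_vac {m : ℕ} {γ : Fin m → ℕ} (h : vac γ ≠ 0) (x : ℕ) : x ∈ Set.range γ ↔ x < m := by
  unfold vac at h
  obtain ⟨σ, -, hσ⟩ := Finset.exists_ne_zero_of_sum_ne_zero h
  have h1 : γ = fun i => ((σ i : Fin m) : ℕ) := by
    by_contra hc
    exact hσ (if_neg hc)
  rw [h1]
  constructor
  · rintro ⟨i, rfl⟩
    exact (σ i).2
  · intro hx
    exact ⟨σ.symm ⟨x, hx⟩, by simp⟩

/-- **Row or column.** -/
theorem wa_range {m n : ℕ} (hn : 2 ≤ n) {β : Fin m → ℕ} (hβ : Function.Injective β) (h1 : FM {n} β ≠ 0)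
    (h2 : Hk (n - 1) fun x => x ∈ Set.range β) :
    (∀ x, x ∈ Set.range β ↔ x + 1 < m ∨ (0 < m ∧ x + 1 = m + n)) ∨ (∀ x, x ∈ Set.range β ↔ x ≤ m ∧ x + n ≠ m) := by
  obtain ⟨j, k1, k2, k3⟩ := step (s := 0) (by omega : 0 < n) h1
  have k4 := range_of_vac k3
  have hc : β j - n < m := (k4 _).1 ⟨j, dn_self _ _ _⟩
  have hb : m ≤ β j := by
    by_contra hlt
    obtain ⟨i, hi⟩ := (k4 (β j)).2 (by omega)
    by_cases hij : i = j
    · rw [hij, dn_self] at hi
      omega
    · rw [dn_ne _ _ hij] at hi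
      exact hij (hβ hi)
  have hB : ∀ x, x ∈ Set.range β ↔ (x < m ∧ x ≠ β j - n) ∨ x = β j := by
    intro x
    constructor
    · rintro ⟨i, rfl⟩
      by_cases hij : i = j
      · exact Or.inr (by rw [hij])
      · exact Or.inl ⟨(k4 _).1 ⟨i, dn_ne _ _ hij⟩, fun h => k2 ⟨i, h⟩⟩
    · rintro (⟨h3, h4⟩ | rfl)
      · obtain ⟨i, hi⟩ := (k4 x).2 h3
        by_cases hij : i = j
        · rw [hij, dn_self] at hi
          exact absurd hi.symm h4
        · exact ⟨i, by rw [← hi, dn_ne _ _ hij]⟩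
      · exact ⟨j, rfl⟩
  obtain ⟨b, p1, p2, p3⟩ := h2
  simp only [hB] at p1 p3 ⊢
  clear hB k2 k3 k4
  generalize β j = c at *
  rcases (by omega : c + 1 = m + n ∨ c = m) with h | h
  · exact Or.inl fun x => by omega
  · exact Or.inr fun x => by omega

theorem ch_row' {α : Type u} [Fintype α] [DecidableEq α] {m : ℕ} (hm : 0 < m) {β : Fin m → ℕ} (hβ : StrictMono β)
    (h : ∀ x, x ∈ Set.range β ↔ x + 1 < m ∨ x + 1 = m + Fintype.card α) (g : Equiv.Perm α) : ch α β g = 1 := by
  have h1 : StrictMono (kp m (Fintype.card α)) := by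
    intro i j hij
    have h2 : (i : ℕ) < j := hij
    have h3 := j.2
    unfold kp
    split_ifs <;> omega
  have h2 : β = kp m (Fintype.card α) := by
    refine (StrictMono.range_inj hβ h1).1 (Set.ext fun x => (h x).trans ⟨?_, ?_⟩)
    · rintro (h3 | h3)
      · exact ⟨⟨x, by omega⟩, kp_lt _ (by change x + 1 ≠ m; omega)⟩
      · refine ⟨⟨m - 1, by omega⟩, (kp_last _ (by change m - 1 + 1 = m; omega)).trans ?_⟩
        change Fintype.card α + (m - 1) = x
        omega
    · rintro ⟨i, rfl⟩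
      have h3 := i.2
      unfold kp
      split_ifs <;> omega
  have h3 := FM_kp hm (ty g) (ty_pos g)
  rw [ty_sum] at h3
  rw [ch_apply, h2, h3, Int.cast_one]

/-- **WA.**  `g` is a cycle through all points, `h` has a cycle through all points but one. -/
theorem wa {α : Type u} [Fintype α] [DecidableEq α] (hn : 2 ≤ Fintype.card α) {φ : Equiv.Perm α → ℂ}
    (hφ : IsIrrCharacter (Equiv.Perm α) φ) {g h : Equiv.Perm α} (hg : ty g = {Fintype.card α})
    (hh : Fintype.card α - 1 ∈ ty h) (h1 : φ g ≠ 0) (h2 : φ h ≠ 0) : φ = (fun _ => 1) ∨ φ = sgn := by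
  obtain ⟨β, hβ, hsum, rfl⟩ := irr_eq (m := Fintype.card α) le_rfl hφ
  have hne0 : ∀ g : Equiv.Perm α, ch α β g ≠ 0 → FM (ty g) β ≠ 0 := fun g hg h0 =>
    hg (by rw [ch_apply, h0, Int.cast_zero])
  have f1 := hne0 g h1
  have f2 := hne0 h h2
  rw [hg] at f1
  rw [← Multiset.cons_erase hh] at f2
  rcases wa_range hn hβ.injective f1 (hk_of (by omega) f2) with k | k
  · exact Or.inl (funext (ch_row' (by omega) hβ fun x => (k x).trans (by omega)))
  · right
    obtain ⟨β', hβ', hrefl⟩ := exists_refl (m' := Fintype.card α) hβ (lt_of_strictMono hβ hsum le_rfl)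
    funext x
    rw [ch_refl hrefl hβ hβ' hsum, ch_row' (by omega) hβ' (fun x => ?_), mul_one]
    generalize Fintype.card α = n at *
    by_cases hx : x < n + n
    · have h3 := hrefl.iff (n + n - 1 - x) (by omega)
      rw [show n + n - 1 - (n + n - 1 - x) = x by omega, k] at h3
      constructor
      · intro h4
        have h5 := mt h3.1 (not_not.2 h4)
        omega
      · intro h4
        by_contra h5
        have h6 := h3.2 h5
        omega
    · refine iff_of_false ?_ (by omega)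
      rintro ⟨i, rfl⟩
      exact hx (hrefl.lt' i)

/-- **WA** with cycle types, `n ≥ 3`. -/
theorem wa_cycleType {α : Type u} [Fintype α] [DecidableEq α] (hn : 3 ≤ Fintype.card α) {φ : Equiv.Perm α → ℂ}
    (hφ : IsIrrCharacter (Equiv.Perm α) φ) {g h : Equiv.Perm α} (hg : Fintype.card α ∈ g.cycleType)
    (hh : Fintype.card α - 1 ∈ h.cycleType) (h1 : φ g ≠ 0) (h2 : φ h ≠ 0) : φ = (fun _ => 1) ∨ φ = sgn := by
  refine wa (by omega) hφ ?_ ?_ h1 h2
  · have h3 : Fintype.card α ∈ ty g := by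
      rw [ty_eq]
      exact Multiset.mem_add.2 (Or.inl hg)
    have h4 := ty_sum g
    rw [← Multiset.cons_erase h3, Multiset.sum_cons] at h4
    have h5 : (ty g).erase (Fintype.card α) = 0 := by
      rw [Multiset.eq_zero_iff_forall_notMem]
      intro a ha
      have h6 := ty_pos g a (Multiset.mem_of_mem_erase ha)
      have h7 := Multiset.single_le_sum (fun _ _ => Nat.zero_le _) a ha
      omega
    rw [← Multiset.cons_erase h3, h5]
    rfl
  · rw [ty_eq]
    exact Multiset.mem_add.2 (Or.inl hh)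

end Cfsg.Agent.VAN.Alt
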